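import Groth.Agent.S1819
import Groth.Agent.LocCohTransform.RHomDual
import Groth.Agent.LocCohTransform.DualTransfer
import Mathlib.RingTheory.Flat.EquationalCriterion

/-!
Finite tor dimension and finite injective dimension are exchanged by duality.
-/

set_option autoImplicit false
set_option linter.style.haveILetI false

universe u

open CategoryTheory CategoryTheory.Limits
open CochainComplex CochainComplex.HomComplex
open scoped TensorProduct

attribute [local instance] HasDerivedCategory.standard

namespace Groth.DualFinite

variable {A : Type u} [CommRing A] (P L : DRing.Cx A)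

/-- `Hom` from flat to injective is injective -/
theorem injective_homCx (hP : ∀ p, Module.Flat A (P.X p)) (hL : ∀ q, Module.Injective A (L.X q))
    (n : ℤ) : Module.Injective A ((DRing.homCx P L).X n) := by
  refine Module.Baer.injective fun 𝔞 g => ?_
  have key : ∀ (p q : ℤ) (h : p + n = q), ∃ φ : P.X p →ₗ[A] L.X q,
      ∀ (a : A) (ha : a ∈ 𝔞) (x : P.X p),
        ((show Cochain P L n from g ⟨a, ha⟩).v p q h).hom x = a • φ x := by
    intro p q h
    haveI := hP p
    let β : 𝔞 →ₗ[A] P.X p →ₗ[A] L.X q :=
      { toFun := fun a => ((show Cochain P L n from g a).v p q h).hom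
        map_add' := fun a b => by
          have : (show Cochain P L n from g (a + b)) = (show Cochain P L n from g a) + (show Cochain P L n from g b) :=
            map_add g a b
          rw [this, Cochain.add_v]
          rfl
        map_smul' := fun c a => by
          have : (show Cochain P L n from g (c • a)) = c • (show Cochain P L n from g a) := map_smul g c a
          rw [this, Cochain.smul_v]
          rfl }
    let e : 𝔞 ⊗[A] P.X p →ₗ[A] P.X p :=
      (TensorProduct.lid A (P.X p)).toLinearMap ∘ₗ 𝔞.subtype.rTensor (P.X p)
    have he : Function.Injective e := (TensorProduct.lid A (P.X p)).injective.comp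
      (Module.Flat.rTensor_preserves_injective_linearMap _ 𝔞.injective_subtype)
    obtain ⟨φ, hφ⟩ := (hL q).out e he (TensorProduct.lift β)
    refine ⟨φ, fun a ha x => ?_⟩
    rw [← map_smul]
    exact (hφ (⟨a, ha⟩ ⊗ₜ x)).symm
  choose φ hφ using key
  let ψ : Cochain P L n := Cochain.mk fun p q h => ModuleCat.ofHom (φ p q h)
  refine ⟨LinearMap.toSpanSingleton A (Cochain P L n) ψ, fun a ha => ?_⟩
  refine Cochain.ext _ _ fun p q h => ?_
  show (a • ψ).v p q h = _
  rw [Cochain.smul_v, show ψ.v p q h = ModuleCat.ofHom (φ p q h) from Cochain.mk_v _ _ _ _]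
  exact ModuleCat.hom_ext (LinearMap.ext fun x => (hφ p q h a ha x).symm)

variable [IsNoetherianRing A]

/-- `Hom` between injective modules is flat -/
theorem flat_homCx (hP : ∀ p, Module.Injective A (P.X p)) (hL : ∀ q, Module.Injective A (L.X q))
    (n : ℤ) : Module.Flat A ((DRing.homCx P L).X n) := by
  refine Module.Flat.iff_forall_isTrivialRelation.2 fun {l f x} hx => ?_
  obtain ⟨m, r, hr⟩ := (Submodule.fg_iff_exists_fin_generating_family (N :=
    LinearMap.ker (Fintype.linearCombination A f))).1 (IsNoetherian.noetherian _)
  have hr' : ∀ j, ∑ i, r j i * f i = 0 := fun j => by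
    have : r j ∈ LinearMap.ker (Fintype.linearCombination A f) :=
      hr ▸ Submodule.subset_span (Set.mem_range_self j)
    simpa [Fintype.linearCombination_apply] using LinearMap.mem_ker.1 this
  have key : ∀ (p q : ℤ) (h : p + n = q), ∃ u : Fin m → (P.X p →ₗ[A] L.X q),
      ∀ i, ((show Cochain P L n from x i).v p q h).hom = ∑ j, r j i • u j := by
    intro p q h
    let H : (Fin l → P.X p) →ₗ[A] L.X q :=
      ∑ i, ((show Cochain P L n from x i).v p q h).hom ∘ₗ LinearMap.proj i
    let ρ : (Fin l → P.X p) →ₗ[A] (Fin m → P.X p) :=
      LinearMap.pi fun j => ∑ i, r j i • LinearMap.proj i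
    have hker : LinearMap.ker ρ ≤ LinearMap.ker H := fun y hy => by
      rw [LinearMap.mem_ker] at hy ⊢
      let π := Fintype.linearCombination A f
      let Y : (Fin l → A) →ₗ[A] P.X p := Fintype.linearCombination A y
      have hY : LinearMap.ker π ≤ LinearMap.ker Y := by
        rw [← hr, Submodule.span_le]
        rintro _ ⟨j, rfl⟩
        simp only [SetLike.mem_coe, LinearMap.mem_ker, Y, Fintype.linearCombination_apply]
        simpa [ρ] using congrFun hy j
      let Ybar : LinearMap.range π →ₗ[A] P.X p :=
        (LinearMap.ker π).liftQ Y hY ∘ₗ π.quotKerEquivRange.symm.toLinearMap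
      obtain ⟨w, hw⟩ := (hP p).out (LinearMap.range π).subtype (Submodule.injective_subtype _) Ybar
      have hyi : ∀ i, y i = f i • w 1 := fun i => by
        have h1 : π (Pi.single i 1) = f i := by simp [π, Fintype.linearCombination_apply_single]
        have h2 : Ybar ⟨f i, h1 ▸ LinearMap.mem_range_self π _⟩ = y i := by
          have h3 : π.quotKerEquivRange (Submodule.Quotient.mk (Pi.single i 1)) =
              ⟨f i, h1 ▸ LinearMap.mem_range_self π _⟩ := Subtype.ext (by simpa using h1)
          rw [← h3]
          simp [Ybar, Y, Fintype.linearCombination_apply_single]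
        rw [← h2, ← hw, ← map_smul, smul_eq_mul, mul_one]
        rfl
      have hx' : ∑ i, f i • ((show Cochain P L n from x i).v p q h).hom (w 1) = 0 := by
        have := congrArg (fun z => ((show Cochain P L n from z).v p q h).hom (w 1)) hx
        refine (Eq.trans ?_ (this.trans ?_))
        · let ev : ((DRing.homCx P L).X n) →ₗ[A] L.X q :=
            { toFun := fun z => ((show Cochain P L n from z).v p q h).hom (w 1)
              map_add' := fun _ _ => rfl
              map_smul' := fun _ _ => rfl }
          exact ((map_sum ev _ _).trans (Finset.sum_congr rfl fun i _ => map_smul ev _ _)).symm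
        · rfl
      simpa [H, hyi] using hx'
    obtain ⟨u, hu⟩ := (hL q).out (LinearMap.range ρ).subtype (Submodule.injective_subtype _)
      ((LinearMap.ker ρ).liftQ H hker ∘ₗ ρ.quotKerEquivRange.symm.toLinearMap)
    refine ⟨fun j => u ∘ₗ LinearMap.single A (fun _ : Fin m => P.X p) j, fun i => LinearMap.ext fun y => ?_⟩
    have h1 : H (Pi.single i y) = ((show Cochain P L n from x i).v p q h).hom y := by
      simp only [H, LinearMap.coe_sum, Finset.sum_apply, LinearMap.comp_apply, LinearMap.proj_apply]
      rw [Finset.sum_eq_single i (fun j _ hj => by rw [Pi.single_eq_of_ne hj, map_zero])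
        (fun hi => absurd (Finset.mem_univ i) hi), Pi.single_eq_same]
    have h2 : u (ρ (Pi.single i y)) = H (Pi.single i y) := by
      have h3 : ρ.quotKerEquivRange (Submodule.Quotient.mk (Pi.single i y)) =
          ⟨ρ (Pi.single i y), LinearMap.mem_range_self ρ _⟩ := Subtype.ext rfl
      refine (hu ⟨ρ (Pi.single i y), LinearMap.mem_range_self ρ _⟩).trans ?_
      rw [← h3]
      simp
    have h4 : ρ (Pi.single i y) = fun j => r j i • y := by
      funext j
      simp only [ρ, LinearMap.pi_apply, LinearMap.coe_sum, Finset.sum_apply, LinearMap.smul_apply,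
        LinearMap.proj_apply]
      rw [Finset.sum_eq_single i (fun k _ hk => by rw [Pi.single_eq_of_ne hk, smul_zero])
        (fun hi => absurd (Finset.mem_univ i) hi), Pi.single_eq_same]
    rw [← h1, ← h2, h4, ← Finset.univ_sum_single (fun j => r j i • y), map_sum, LinearMap.sum_apply]
    refine Finset.sum_congr rfl fun j _ => ?_
    show u (Pi.single j (r j i • y)) = r j i • u (Pi.single j y)
    rw [← map_smul, ← Pi.single_smul]
  choose u hu using key
  refine ⟨m, fun i j => r j i, fun j => (Cochain.mk fun p q h => ModuleCat.ofHom (u p q h j) :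
    Cochain P L n), fun i => ?_, fun j => by simpa [mul_comm] using hr' j⟩
  refine Cochain.ext _ _ fun p q h => ModuleCat.hom_ext ?_
  rw [hu p q h i]
  let ev : ((DRing.homCx P L).X n) →ₗ[A] (P.X p →ₗ[A] L.X q) :=
    { toFun := fun z => ((show Cochain P L n from z).v p q h).hom
      map_add' := fun _ _ => rfl
      map_smul' := fun _ _ => rfl }
  refine Eq.trans ?_ (map_sum ev _ _).symm
  refine Finset.sum_congr rfl fun j _ => Eq.trans ?_ (map_smul ev _ _).symm
  congr 1

omit [IsNoetherianRing A] in
/-- degree bounds -/
theorem vanishesOutside_homCx (a b c d : ℤ) (hP : DRing.VanishesOutside P a b)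
    (hL : DRing.VanishesOutside L c d) : DRing.VanishesOutside (DRing.homCx P L) (c - b) (d - a) := by
  intro n hn
  haveI : Subsingleton (Cochain P L n) := ⟨fun z w => Cochain.ext _ _ fun p q h => by
    by_cases hp : p < a ∨ b < p
    · exact (hP p hp).eq_of_src _ _
    · exact (hL q (by omega)).eq_of_tgt _ _⟩
  exact ModuleCat.isZero_of_subsingleton (ModuleCat.of A (Cochain P L n))

end Groth.DualFinite
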